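import Groth.Agent.TopCompact.Soft

/-!
The unit of the inverse image on closed subsets; sheaves on profinite spaces are soft.
-/

set_option autoImplicit false
set_option linter.style.haveILetI false
set_option linter.unusedSectionVars false
set_option backward.isDefEq.respectTransparency false
set_option backward.isDefEq.respectTransparency.types false

universe u

open CategoryTheory Category Limits Opposite TopologicalSpace
open Groth.Agent.TopPullModel

namespace Groth.Agent.TopCompact

variable {X : TopCat.{u}}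

theorem IsSoft.of_iso {G G' : CohTop.Ab X} (h : IsSoft G) (e : G ≅ G') : IsSoft G' := fun A hA W t hAW => by
  obtain ⟨s, hs⟩ := h A hA W (e.inv.hom.app (op W) t) hAW
  refine ⟨e.hom.hom.app (op ⊤) s, fun a ha => ?_⟩
  rw [← stMap_gm, hs a ha, stMap_gm]
  have e1 := congrArg (fun k : G' ⟶ G' => gm G' W a (hAW ha) (k.hom.app (op W) t)) e.inv_hom_id
  exact e1

theorem GoodEmb.isSoft_pull {Z : TopCat.{u}} {ι : Z ⟶ X} (h : GoodEmb ι) (F : CohTop.Ab X)
    [TopCat.Sheaf.IsFlasque F] : IsSoft ((CohTop.pull ι).obj F) :=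
  (h.isSoft_mobj F).of_iso ((mfunIso ι).app F)

theorem surjective_unitApp {A : TopCat.{u}} {g : A ⟶ X} (h : GoodEmb g) (hc : IsClosed (Set.range g))
    (G : CohTop.Ab X) (hG : IsSoft G) : Function.Surjective (unitApp g G ⊤) := fun t => by
  obtain ⟨U, s, hU, hs⟩ := h.exists_section_near G (W := ⊤) t isClosed_univ (fun _ _ => trivial)
  rw [Set.image_univ] at hU
  obtain ⟨r, hr⟩ := hG _ hc U s hU
  refine ⟨r, secs_ext (g := g) (F := G) (W := (⊤ : Opens A)) fun v x hx => ?_⟩
  subst hx
  change gm G ⊤ (g v.1) trivial r = _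
  exact (hr (g v.1) ⟨v.1, rfl⟩).trans (hs v.1 trivial)

theorem surjective_unit {A : TopCat.{u}} {g : A ⟶ X} (h : GoodEmb g) (hc : IsClosed (Set.range g))
    (G : CohTop.Ab X) (hG : IsSoft G) :
    Function.Surjective ((((TopCat.Sheaf.pullbackPushforwardAdjunction AddCommGrpCat.{u} g).unit.app G).hom.app
      (op ⊤)).hom) := fun y => by
  have e := Adjunction.unit_leftAdjointUniq_hom_app (madj g)
    (TopCat.Sheaf.pullbackPushforwardAdjunction AddCommGrpCat.{u} g) G
  have hu : (madj g).unit.app G = unit g G := by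
    change unit g G ≫ (CohTop.push g).map (𝟙 _) = _
    rw [CategoryTheory.Functor.map_id, comp_id]
  rw [hu] at e
  let y' := ((mfunIso g).app G).inv.hom.app (op ⊤) y
  obtain ⟨s, hs⟩ := surjective_unitApp h hc G hG y'
  refine ⟨s, ?_⟩
  rw [← e]
  change ((mfunIso g).hom.app G).hom.app (op ⊤) (unitApp g G ⊤ s) = y
  rw [hs]
  exact congrArg (fun k : (CohTop.pull g).obj G ⟶ (CohTop.pull g).obj G => k.hom.app (op ⊤) y) ((mfunIso g).app G).inv_hom_id

/-- Every sheaf on a profinite space is soft. -/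
theorem isSoft_of_profinite [CompactSpace X] [T2Space X] [TotallyDisconnectedSpace X] (G : CohTop.Ab X) :
    IsSoft G := fun A hA W t hAW => by
  obtain ⟨C, hC, hAC, hCW⟩ := exists_clopen_of_closed_subset_open hA W.2 hAW
  classical
  let g : ∀ x : (⊤ : Opens X), CohTop.stalk G x.1 := fun x =>
    if hx : x.1 ∈ C then gm G W x.1 (hCW hx) t else 0
  obtain ⟨s, hs, -⟩ := existsUnique_section (G := G) ⊤ g fun x => by
    by_cases hx : x.1 ∈ C
    · refine ⟨⟨C, hC.2⟩, G.obj.map (homOfLE (show (⟨C, hC.2⟩ : Opens X) ≤ W from hCW)).op t, hx, fun w hw => ?_⟩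
      rw [gm_res]
      simp only [g]
      rw [dif_pos (show w.1 ∈ C from hw)]
    · refine ⟨⟨Cᶜ, hC.1.isOpen_compl⟩, 0, hx, fun w hw => ?_⟩
      rw [map_zero]
      simp only [g]
      rw [dif_neg (show w.1 ∉ C from hw)]
  exact ⟨s, fun a ha => (hs ⟨a, trivial⟩).trans (dif_pos (hAC ha))⟩

end Groth.Agent.TopCompact
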