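import Groth.Agent.TopCompact.Unit
import Groth.Agent.TopFinite.Push
import Groth.Agent.TopFinite.Disjoint

/-!
Stalks of direct images along proper maps with separated fibres.
-/

set_option autoImplicit false
set_option linter.style.haveILetI false
set_option linter.unusedSectionVars false
set_option backward.isDefEq.respectTransparency false
set_option backward.isDefEq.respectTransparency.types false

universe u

open CategoryTheory Category Limits Opposite TopologicalSpace
open Groth.Agent.TopPullModel Groth.Agent.TopFinite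

namespace Groth.Agent.TopCompact

variable {X Y Z : TopCat.{u}} (f : X ⟶ Y) (y : Y) (ι : Z ⟶ X) (hy : ∀ z, f (ι z) = y)

/-- A germ of the direct image gives germs along the fibre. -/
noncomputable def stalkToFibre (G : CohTop.Ab X) : CohTop.stalk ((CohTop.push f).obj G) y →+ secs ι G ⊤ where
  toFun a := ⟨fun z x => adjSt f (𝟙 ((CohTop.push f).obj G)) x.1 ⟨y, x.2 ▸ hy z.1⟩ a, fun z => by
    obtain ⟨O, hO, s, rfl⟩ := exists_gm_eq ((CohTop.push f).obj G) a
    refine ⟨(Opens.map f).obj O, s, ⊤, trivial, fun v _ => ⟨show f (ι v.1) ∈ O from (hy v.1).symm ▸ hO, fun x hx hO' => ?_⟩⟩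
    exact adjSt_gm f (𝟙 ((CohTop.push f).obj G)) x ⟨y, hx ▸ hy v.1⟩ O hO s⟩
  map_zero' := secs_ext fun _ _ _ => map_zero _
  map_add' a b := secs_ext fun _ _ _ => map_add _ a b

theorem stalkToFibre_gm (G : CohTop.Ab X) (O : Opens Y) (hO : y ∈ O)
    (s : ((CohTop.push f).obj G).obj.obj (op O)) (z : (⊤ : Opens Z)) :
    (stalkToFibre f y ι hy G (gm ((CohTop.push f).obj G) O y hO s)).1 z ⟨ι z.1, rfl⟩ =
      gm G ((Opens.map f).obj O) (ι z.1) (show f (ι z.1) ∈ O from (hy z.1).symm ▸ hO) s :=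
  adjSt_gm f (𝟙 ((CohTop.push f).obj G)) (ι z.1) ⟨y, hy z.1⟩ O hO s

/-- The comparison of the stalk with the sections on the fibre. -/
noncomputable def stalkToFibreNat : CohTop.push f ⋙ stk y ⟶ mfun ι ⋙ top' Z where
  app G := AddCommGrpCat.ofHom (X := CohTop.stalk ((CohTop.push f).obj G) y) (Y := secs ι G ⊤)
    (stalkToFibre f y ι hy G)
  naturality {G G'} h := AddCommGrpCat.ext fun (a : CohTop.stalk ((CohTop.push f).obj G) y) => by
    obtain ⟨O, hO, s, rfl⟩ := exists_gm_eq ((CohTop.push f).obj G) a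
    refine secs_ext fun z x hx => ?_
    subst hx
    change (stalkToFibre f y ι hy G' (stMap ((CohTop.push f).map h) y (gm ((CohTop.push f).obj G) O y hO s))).1 z ⟨ι z.1, rfl⟩ =
      stMap h (ι z.1) ((stalkToFibre f y ι hy G (gm ((CohTop.push f).obj G) O y hO s)).1 z ⟨ι z.1, rfl⟩)
    rw [stMap_gm, stalkToFibre_gm, stalkToFibre_gm, stMap_gm]
    rfl

variable (h : GoodEmb ι) (hr : Set.range ι = f ⁻¹' {y}) (ht : Tube f)

include h hr ht in
theorem bijective_stalkToFibre (G : CohTop.Ab X) : Function.Bijective (stalkToFibre f y ι hy G) := by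
  refine ⟨(injective_iff_map_eq_zero _).2 fun a ha => ?_, fun t => ?_⟩
  · obtain ⟨O, hO, s, rfl⟩ := exists_gm_eq ((CohTop.push f).obj G) a
    obtain ⟨W, hW, hWO, -, hWe⟩ := exists_eq_near G (U := (Opens.map f).obj O) (V := (Opens.map f).obj O) s 0
      (Set.range ι) (by
        rintro _ ⟨z, rfl⟩
        have hm : f (ι z) ∈ O := (hy z).symm ▸ hO
        refine ⟨hm, hm, ?_⟩
        rw [map_zero, ← stalkToFibre_gm f y ι hy G O hO s ⟨z, trivial⟩, ha]
        rfl)
    obtain ⟨V, hV, hyV, hVW⟩ := ht y W W.2 (hr ▸ hW)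
    let V' : Opens Y := ⟨V, hV⟩ ⊓ O
    rw [← gm_res ((CohTop.push f).obj G) (inf_le_right : V' ≤ O) y ⟨hyV, hO⟩ s]
    have e : ((CohTop.push f).obj G).obj.map (homOfLE (inf_le_right : V' ≤ O)).op s = 0 := by
      refine gm_ext G ((Opens.map f).obj V') _ _ fun x hx => ?_
      change gm G ((Opens.map f).obj V') x hx
        (G.obj.map (homOfLE (show (Opens.map f).obj V' ≤ (Opens.map f).obj O from fun v hv => hv.2)).op s) = _
      rw [gm_res, hWe x hx.2 hx.2 (hVW hx.1), map_zero, map_zero]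
    rw [e, map_zero]
  · obtain ⟨U, s, hU, hs⟩ := h.exists_section_near G (W := ⊤) t isClosed_univ (fun _ _ => trivial)
    rw [Set.image_univ] at hU
    obtain ⟨V, hV, hyV, hVU⟩ := ht y U U.2 (hr ▸ hU)
    refine ⟨gm ((CohTop.push f).obj G) ⟨V, hV⟩ y hyV
      (G.obj.map (homOfLE (show (Opens.map f).obj ⟨V, hV⟩ ≤ U from hVU)).op s),
      secs_ext fun z x hx => ?_⟩
    subst hx
    rw [stalkToFibre_gm, gm_res]
    exact hs z.1 trivial

/-- The stalk of a direct image is the group of sections on the fibre. -/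
noncomputable def stalkPushIso : CohTop.push f ⋙ stk y ≅ mfun ι ⋙ top' Z :=
  haveI : IsIso (stalkToFibreNat f y ι hy) := by
    suffices ∀ G, IsIso ((stalkToFibreNat f y ι hy).app G) from NatIso.isIso_of_isIso_app _
    intro G
    exact (ConcreteCategory.isIso_iff_bijective _).2 (bijective_stalkToFibre f y ι hy h hr ht G)
  asIso (stalkToFibreNat f y ι hy)

variable {W : TopCat.{u}} {j : W ⟶ X} (hj : GoodEmb j)

include hj in
theorem isZero_gamDerived_mfun (Q : CohTop.Ab X) [TopCat.Sheaf.IsFlasque Q] (r : ℕ) :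
    IsZero (((gam W).rightDerived (r + 1)).obj ((mfun j).obj Q)) := by
  haveI : CompactSpace W :=
    ⟨hj.emb.isInducing.isCompact_iff.2 (by rw [Set.image_univ]; exact hj.compact)⟩
  haveI : T2Space W := ⟨fun z z' hzz => by
    obtain ⟨A, B, hA, hB, hzA, hzB, hAB⟩ := hj.sep (j z) ⟨z, rfl⟩ (j z') ⟨z', rfl⟩ fun e => hzz (hj.emb.injective e)
    exact ⟨_, _, hA.preimage j.hom.continuous, hB.preimage j.hom.continuous, hzA, hzB, hAB.preimage _⟩⟩
  haveI h0 : Subsingleton (AddCommGrpCat.of (CohTop.H ((mfun j).obj Q) (r + 1))) :=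
    subsingleton_H_of_isSoft r _ (hj.isSoft_mobj Q)
  exact (@AddCommGrpCat.isZero_of_subsingleton (AddCommGrpCat.of (CohTop.H ((mfun j).obj Q) (r + 1))) h0).of_iso
    (gamDerived (r + 1) _)

include hy h hr ht in
/-- The stalk of a higher direct image is the cohomology of the fibre. -/
theorem nonempty_stalk_Rpush (F : CohTop.Ab X) (p : ℕ) :
    Nonempty (CohTop.stalk ((CohTop.Rpush f p).obj F) y ≅
      AddCommGrpCat.of (CohTop.H ((CohTop.pull ι).obj F) p)) := by
  obtain ⟨a⟩ := GrothSS.nonempty_rightDerived_comp_exact (CohTop.push f) (stk y) p F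
  obtain ⟨b⟩ := GrothSS.nonempty_rightDerived_comp_acyclic (mfun ι) (gam Z) (fun Q hQ r hr => by
    obtain ⟨r, rfl⟩ : ∃ r', r = r' + 1 := ⟨r - 1, by omega⟩
    haveI := hQ
    haveI : TopCat.Sheaf.IsFlasque Q := S0454.result Q
    exact isZero_gamDerived_mfun h Q r) p F
  let e : CohTop.push f ⋙ stk y ≅ mfun ι ⋙ gam Z :=
    stalkPushIso f y ι hy h hr ht ≪≫ Functor.isoWhiskerLeft (mfun ι) (gamTop Z).symm
  exact ⟨a.symm ≪≫ (GrothSS.rightDerivedMapIso e p).app F ≪≫ b ≪≫ gamDerived p _ ≪≫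
    CohTopDesc.hIso ((mfunIso ι).app F) p⟩

omit h hr ht hy in
theorem goodEmb_fibre (hf : IsProperMap f)
    (hs : ∀ x x' : X, f x = f x' → x ≠ x' → ∃ U V : Set X, IsOpen U ∧ IsOpen V ∧ x ∈ U ∧ x' ∈ V ∧ Disjoint U V) :
    GoodEmb (TopCat.ofHom ⟨((↑) : f ⁻¹' {y} → X), continuous_subtype_val⟩ : TopCat.of (f ⁻¹' {y}) ⟶ X) := by
  have e : Set.range (⇑(TopCat.ofHom ⟨((↑) : f ⁻¹' {y} → X), continuous_subtype_val⟩ : TopCat.of (f ⁻¹' {y}) ⟶ X)) =
      f ⁻¹' {y} := Subtype.range_coe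
  refine ⟨Topology.IsEmbedding.subtypeVal, ?_, ?_⟩
  · rw [e]
    exact hf.isCompact_preimage isCompact_singleton
  · rw [e]
    exact fun x hx x' hx' hne => hs x x' ((show f x = y from hx).trans (show f x' = y from hx').symm) hne

end Groth.Agent.TopCompact
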