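import Groth.Agent.TopCompact.Fibre
import Groth.Agent.GrothSS.CechSS
import Mathlib.Algebra.Category.Grp.FilteredColimits

/-!
Cohomology of a compact, relatively Hausdorff subspace as a colimit over neighbourhoods.
-/

set_option autoImplicit false
set_option linter.style.haveILetI false
set_option linter.unusedSectionVars false
set_option backward.isDefEq.respectTransparency false
set_option backward.isDefEq.respectTransparency.types false

universe u

open CategoryTheory Category Limits Opposite TopologicalSpace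
open Groth.Agent.TopPullModel Groth.Agent.TopFinite

namespace Groth.Agent.TopCompact

variable {X Z : TopCat.{u}} (ι : Z ⟶ X)

/-- The opens containing a subset. -/
abbrev nbhd (S : Set X) : ObjectProperty (Opens X)ᵒᵖ := fun U => S ⊆ (U.unop : Set X)

instance nbhd_isFiltered (S : Set X) : IsFiltered (nbhd S).FullSubcategory := by
  haveI : Nonempty (nbhd S).FullSubcategory := ⟨⟨op ⊤, fun _ _ => trivial⟩⟩
  haveI : IsFilteredOrEmpty (nbhd S).FullSubcategory :=
    { cocone_objs := fun a b => ⟨⟨op (a.obj.unop ⊓ b.obj.unop), fun x hx => ⟨a.2 hx, b.2 hx⟩⟩,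
        ObjectProperty.homMk (homOfLE inf_le_left).op, ObjectProperty.homMk (homOfLE inf_le_right).op, trivial⟩
      cocone_maps := fun {a b} f g => ⟨b, 𝟙 b, by
        ext
        exact Subsingleton.elim _ _⟩ }
  exact { }

/-- The presheaf of a sheaf on the neighbourhoods of a subset. -/
noncomputable abbrev nbhdSecs (S : Set X) : CohTop.Ab X ⥤ ((nbhd S).FullSubcategory ⥤ AddCommGrpCat.{u}) :=
  sheafToPresheaf _ _ ⋙ (Functor.whiskeringLeft _ _ _).obj (nbhd S).ι

/-- Restriction of a section on a neighbourhood to the compact part. -/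
noncomputable def resFib (G : CohTop.Ab X) (U : Opens X) (hU : Set.range ι ⊆ (U : Set X)) :
    G.obj.obj (op U) →+ secs ι G ⊤ where
  toFun s := ⟨fun v x => gm G U x.1 (hU ⟨v.1, x.2⟩) s,
    fun v => ⟨U, s, ⊤, trivial, fun w _ => ⟨hU ⟨w.1, rfl⟩, fun _ _ _ => rfl⟩⟩⟩
  map_zero' := secs_ext fun _ _ _ => map_zero _
  map_add' a b := secs_ext fun _ _ _ => map_add _ a b

theorem resFib_res (G : CohTop.Ab X) {U V : Opens X} (h : V ≤ U) (hU : Set.range ι ⊆ (U : Set X))
    (hV : Set.range ι ⊆ (V : Set X)) (s : G.obj.obj (op U)) :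
    resFib ι G V hV (G.obj.map (homOfLE h).op s) = resFib ι G U hU s :=
  secs_ext fun v x hx => gm_res G h x _ s

/-- The cocone of restrictions. -/
noncomputable def fibCocone (G : CohTop.Ab X) : Cocone ((nbhdSecs (Set.range ι)).obj G) where
  pt := AddCommGrpCat.of (secs ι G ⊤)
  ι :=
    { app := fun U => AddCommGrpCat.ofHom (resFib ι G U.obj.unop U.2)
      naturality := fun U V i => by
        ext (s : G.obj.obj U.obj)
        exact resFib_res ι G (leOfHom i.hom.unop) U.2 V.2 s }

set_option maxHeartbeats 800000 in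
/-- Restriction of sections to the compact part. -/
noncomputable def colimToFibre : nbhdSecs (Set.range ι) ⋙ colim ⟶ mfun ι ⋙ top' Z where
  app G := colimit.desc ((nbhdSecs (Set.range ι)).obj G) (fibCocone ι G)
  naturality {G G'} h := by
    refine colimit.hom_ext fun U => ?_
    change colimit.ι ((nbhdSecs (Set.range ι)).obj G) U ≫ colimMap ((nbhdSecs (Set.range ι)).map h) ≫
        colimit.desc _ (fibCocone ι G') =
      colimit.ι ((nbhdSecs (Set.range ι)).obj G) U ≫ colimit.desc _ (fibCocone ι G) ≫ (mfun ι ⋙ top' Z).map h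
    rw [ι_colimMap_assoc, colimit.ι_desc, colimit.ι_desc_assoc]
    refine AddCommGrpCat.ext fun (s : G.obj.obj U.obj) => secs_ext fun v x hx => ?_
    exact (stMap_gm h U.obj.unop x (U.2 ⟨v.1, hx⟩) s).symm

variable {ι}

theorem GoodEmb.bijective_colimToFibre (h : GoodEmb ι) (G : CohTop.Ab X) :
    Function.Bijective ((colimToFibre ι).app G) := by
  have hι : ∀ (U : (nbhd (Set.range ι)).FullSubcategory) (s : G.obj.obj U.obj) (v : (⊤ : Opens Z)) (x : X) (hx : ι v.1 = x),
      ((colimToFibre ι).app G (colimit.ι ((nbhdSecs (Set.range ι)).obj G) U s)).1 v ⟨x, hx⟩ =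
        gm G U.obj.unop x (U.2 ⟨v.1, hx⟩) s := fun U s v x hx => by
    have := ConcreteCategory.congr_hom (colimit.ι_desc _ U :
      colimit.ι ((nbhdSecs (Set.range ι)).obj G) U ≫ (colimToFibre ι).app G = _) s
    exact (congrArg (fun t : secs ι G ⊤ => t.1 v ⟨x, hx⟩) this : _)
  refine ⟨(injective_iff_map_eq_zero ((colimToFibre ι).app G).hom).2 fun a ha => ?_, fun t => ?_⟩
  · obtain ⟨U, s, rfl⟩ := Concrete.colimit_exists_rep _ a
    obtain ⟨W, hW, hWU, -, hWe⟩ := exists_eq_near G (U := U.obj.unop) (V := U.obj.unop) s 0 (Set.range ι) (by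
      rintro _ ⟨z, rfl⟩
      refine ⟨U.2 ⟨z, rfl⟩, U.2 ⟨z, rfl⟩, ?_⟩
      rw [map_zero, ← hι U s ⟨z, trivial⟩ _ rfl]
      exact congrArg (fun t : secs ι G ⊤ => t.1 ⟨z, trivial⟩ ⟨ι z, rfl⟩) ha)
    let W' : (nbhd (Set.range ι)).FullSubcategory := ⟨op W, hW⟩
    let i : U ⟶ W' := ObjectProperty.homMk (homOfLE hWU).op
    have e : ((nbhdSecs (Set.range ι)).obj G).map i s = 0 := by
      refine gm_ext G W _ _ fun x hx => ?_
      change gm G W x hx (G.obj.map (homOfLE hWU).op s) = _
      rw [gm_res, hWe x (hWU hx) (hWU hx) hx, map_zero, map_zero]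
    rw [← colimit.w ((nbhdSecs (Set.range ι)).obj G) i]
    exact (congrArg (colimit.ι ((nbhdSecs (Set.range ι)).obj G) W') e).trans (map_zero _)
  · obtain ⟨U, s, hU, hs⟩ := h.exists_section_near G (W := ⊤) t isClosed_univ (fun _ _ => trivial)
    rw [Set.image_univ] at hU
    refine ⟨colimit.ι ((nbhdSecs (Set.range ι)).obj G) ⟨op U, hU⟩ s, secs_ext fun z x hx => ?_⟩
    rw [hι]
    subst hx
    exact hs z.1 trivial

/-- Cohomology of a compact, relatively Hausdorff subspace. -/
theorem GoodEmb.nonempty_colim_H (h : GoodEmb ι) (F : CohTop.Ab X) (p : ℕ) :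
    Nonempty ((colimit ((nbhd (Set.range ι)).ι ⋙
        (Sheaf.cohomologyPresheafFunctor (Opens.grothendieckTopology X) p).obj F) : AddCommGrpCat.{u}) ≅
      AddCommGrpCat.of (CohTop.H ((CohTop.pull ι).obj F) p)) := by
  haveI := GrothSS.enoughInjectives_presheaf (C := Opens X)
  haveI : IsIso (colimToFibre ι) := by
    suffices ∀ G, IsIso ((colimToFibre ι).app G) from NatIso.isIso_of_isIso_app _
    intro G
    exact (ConcreteCategory.isIso_iff_bijective _).2 (h.bijective_colimToFibre G)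
  haveI : PreservesFiniteLimits (colim : ((nbhd (Set.range ι)).FullSubcategory ⥤ AddCommGrpCat.{u}) ⥤ _) :=
    HasExactColimitsOfShape.preservesFiniteLimits
  let T := sheafToPresheaf (Opens.grothendieckTopology X) AddCommGrpCat.{u}
  let R : ((Opens X)ᵒᵖ ⥤ AddCommGrpCat.{u}) ⥤ AddCommGrpCat.{u} :=
    (Functor.whiskeringLeft _ _ _).obj (nbhd (Set.range ι)).ι ⋙ colim
  haveI : ((Functor.whiskeringLeft _ _ AddCommGrpCat.{u}).obj (nbhd (Set.range ι)).ι).Additive := { }
  haveI : (colim : ((nbhd (Set.range ι)).FullSubcategory ⥤ AddCommGrpCat.{u}) ⥤ _).Additive :=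
    ⟨fun {A B f g} => colimit.hom_ext fun k => by simp⟩
  haveI : R.Additive := inferInstance
  haveI : PreservesFiniteLimits R := inferInstance
  haveI : PreservesFiniteColimits R := inferInstance
  obtain ⟨a⟩ := GrothSS.nonempty_rightDerived_comp_exact T R p F
  obtain ⟨b⟩ := GrothSS.nonempty_rightDerived_comp_acyclic (mfun ι) (gam Z) (fun Q hQ r hr => by
    obtain ⟨r, rfl⟩ : ∃ r', r = r' + 1 := ⟨r - 1, by omega⟩
    haveI := hQ
    haveI : TopCat.Sheaf.IsFlasque Q := S0454.result Q
    exact isZero_gamDerived_mfun h Q r) p F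
  let i2 : (T.rightDerived p).obj F ≅ F.cohomologyPresheaf p :=
    (injectiveResolution F).isoRightDerivedObj T p ≪≫ SiteCoh.homologyIsoCohomology F p
  let e : T ⋙ R ≅ mfun ι ⋙ gam Z :=
    (Functor.associator _ _ _).symm ≪≫ asIso (colimToFibre ι) ≪≫
      Functor.isoWhiskerLeft (mfun ι) (gamTop Z).symm
  exact ⟨R.mapIso i2.symm ≪≫ a.symm ≪≫ (GrothSS.rightDerivedMapIso e p).app F ≪≫ b ≪≫ gamDerived p _ ≪≫
    CohTopDesc.hIso ((mfunIso ι).app F) p⟩

end Groth.Agent.TopCompact
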