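import Groth.Agent.TopPullModel.Adj
import Groth.Agent.TopPullModel.Flasque
import Groth.Agent.PtTopLib.Shrink

/-!
Sections of the inverse image on a compact, relatively Hausdorff subspace extend to open neighbourhoods.
-/

set_option autoImplicit false
set_option linter.style.haveILetI false
set_option linter.unusedSectionVars false
set_option backward.isDefEq.respectTransparency false
set_option backward.isDefEq.respectTransparency.types false

universe u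

open CategoryTheory Opposite TopologicalSpace
open Groth.Agent.TopPullModel

namespace Groth.Agent.TopCompact

variable {X : TopCat.{u}}

/-- Distinct points of the subset have disjoint neighbourhoods in the space. -/
def RelT2 (Z : Set X) : Prop :=
  ∀ z ∈ Z, ∀ z' ∈ Z, z ≠ z' → ∃ A B : Set X, IsOpen A ∧ IsOpen B ∧ z ∈ A ∧ z' ∈ B ∧ Disjoint A B

theorem RelT2.mono {Z Z' : Set X} (h : RelT2 Z) (hZ : Z' ⊆ Z) : RelT2 Z' :=
  fun z hz z' hz' => h z (hZ hz) z' (hZ hz')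

theorem RelT2.of_t2 [T2Space X] (Z : Set X) : RelT2 Z := fun _ _ _ _ h => t2_separation h

/-- Sections whose germs agree on a set agree near that set. -/
theorem exists_eq_near (F : CohTop.Ab X) {U V : Opens X} (s : F.obj.obj (op U)) (t : F.obj.obj (op V))
    (S : Set X) (hS : ∀ x ∈ S, ∃ (hU : x ∈ U) (hV : x ∈ V), gm F U x hU s = gm F V x hV t) :
    ∃ W : Opens X, S ⊆ (W : Set X) ∧ W ≤ U ∧ W ≤ V ∧
      ∀ (x : X) (hU : x ∈ U) (hV : x ∈ V), x ∈ W → gm F U x hU s = gm F V x hV t := by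
  choose hU hV h using hS
  choose N hN iU iV hiN using fun x : S =>
    TopCat.Presheaf.germ_eq (C := AddCommGrpCat.{u}) (X := X) F.obj x.1 (hU x.1 x.2) (hV x.1 x.2) s t
      (h x.1 x.2)
  refine ⟨⨆ x, N x, fun x hx => Opens.mem_iSup.2 ⟨⟨x, hx⟩, hN ⟨x, hx⟩⟩, iSup_le fun x => leOfHom (iU x),
    iSup_le fun x => leOfHom (iV x), fun y hyU hyV hy => ?_⟩
  obtain ⟨x, hx⟩ := Opens.mem_iSup.1 hy
  rw [← gm_res F (leOfHom (iU x)) y hx s, ← gm_res F (leOfHom (iV x)) y hx t]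
  exact congrArg _ (hiN x)

/-- Gluing two sections agreeing near the intersection of two compact sets. -/
theorem exists_glue (F : CohTop.Ab X) {Z K L : Set X} (hZ : RelT2 Z) (hK : IsCompact K) (hL : IsCompact L)
    (hKZ : K ⊆ Z) (hLZ : L ⊆ Z) {U V : Opens X} (s : F.obj.obj (op U)) (t : F.obj.obj (op V))
    (hKU : K ⊆ (U : Set X)) (hLV : L ⊆ (V : Set X))
    (h : ∀ x (hx : x ∈ K ∩ L), gm F U x (hKU hx.1) s = gm F V x (hLV hx.2) t) :
    ∃ (O : Opens X) (r : F.obj.obj (op O)) (hO : K ∪ L ⊆ (O : Set X)),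
      (∀ x (hx : x ∈ K), gm F O x (hO (Or.inl hx)) r = gm F U x (hKU hx) s) ∧
        ∀ x (hx : x ∈ L), gm F O x (hO (Or.inr hx)) r = gm F V x (hLV hx) t := by
  obtain ⟨W, hW, hWU, hWV, hWeq⟩ := exists_eq_near F s t (K ∩ L) fun x hx => ⟨hKU hx.1, hLV hx.2, h x hx⟩
  obtain ⟨A, B, hA, hB, hKA, hLB, hAB⟩ := PtTopLib.separate hZ (K := K \ W) (L := L \ W)
    (hK.diff W.2) (hL.diff W.2) (Set.sdiff_subset.trans hKZ) (Set.sdiff_subset.trans hLZ)
    (Set.disjoint_left.2 fun x hx hx' => hx.2 (hW ⟨hx.1, hx'.1⟩))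
  let U' : Opens X := U ⊓ (⟨A, hA⟩ ⊔ W)
  let V' : Opens X := V ⊓ (⟨B, hB⟩ ⊔ W)
  have hov : ∀ x, x ∈ U' → x ∈ V' → x ∈ W := fun x hx hx' => by
    rcases hx.2 with ha | ha
    · rcases hx'.2 with hb | hb
      · exact absurd hb (Set.disjoint_left.1 hAB ha)
      · exact hb
    · exact ha
  have hKU' : K ⊆ (U' : Set X) := fun x hx => ⟨hKU hx, by
    by_cases hw : x ∈ W
    · exact Or.inr hw
    · exact Or.inl (hKA ⟨hx, hw⟩)⟩
  have hLV' : L ⊆ (V' : Set X) := fun x hx => ⟨hLV hx, by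
    by_cases hw : x ∈ W
    · exact Or.inr hw
    · exact Or.inl (hLB ⟨hx, hw⟩)⟩
  classical
  let g : ∀ x : (U' ⊔ V' : Opens X), CohTop.stalk F x.1 := fun x =>
    if hx : x.1 ∈ U' then gm F U x.1 hx.1 s else gm F V x.1 (x.2.resolve_left hx).1 t
  have gU : ∀ (x : (U' ⊔ V' : Opens X)) (hx : x.1 ∈ U'), g x = gm F U x.1 hx.1 s := fun x hx => dif_pos hx
  have gV : ∀ (x : (U' ⊔ V' : Opens X)) (hx : x.1 ∈ V'), g x = gm F V x.1 hx.1 t := fun x hx => by
    by_cases hx' : x.1 ∈ U'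
    · rw [gU x hx']
      exact hWeq x.1 hx'.1 hx.1 (hov x.1 hx' hx)
    · exact dif_neg hx'
  obtain ⟨r, hr, -⟩ := existsUnique_section (G := F) (U' ⊔ V') g fun x => by
    rcases x.2 with hx | hx
    · exact ⟨U', F.obj.map (homOfLE inf_le_left).op s, hx, fun w hw => by rw [gm_res, gU w hw]⟩
    · exact ⟨V', F.obj.map (homOfLE inf_le_left).op t, hx, fun w hw => by rw [gm_res, gV w hw]⟩
  refine ⟨U' ⊔ V', r, Set.union_subset_union hKU' hLV', fun x hx => ?_, fun x hx => ?_⟩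
  · exact (hr ⟨x, Or.inl (hKU' hx)⟩).trans (gU ⟨x, Or.inl (hKU' hx)⟩ (hKU' hx))
  · exact (hr ⟨x, Or.inr (hLV' hx)⟩).trans (gV ⟨x, Or.inr (hLV' hx)⟩ (hLV' hx))

/-- A compatible family of germs near every point of a compact set comes from a section near it. -/
theorem exists_section_of_germs (F : CohTop.Ab X) {Z : Set X} (hZ : IsCompact Z) (hsep : RelT2 Z)
    (a : ∀ x ∈ Z, CohTop.stalk F x)
    (ha : ∀ x ∈ Z, ∃ (O : Opens X) (s : F.obj.obj (op O)), x ∈ O ∧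
      ∀ (y : X) (hy : y ∈ Z) (hO : y ∈ O), a y hy = gm F O y hO s) :
    ∃ (U : Opens X) (s : F.obj.obj (op U)) (hU : Z ⊆ (U : Set X)),
      ∀ (y : X) (hy : y ∈ Z), gm F U y (hU hy) s = a y hy := by
  let p : Set X → Prop := fun T => ∃ K, T ⊆ K ∧ K ⊆ Z ∧ IsCompact K ∧
    ∃ (U : Opens X) (s : F.obj.obj (op U)) (hU : K ⊆ (U : Set X)),
      ∀ (y : X) (hyK : y ∈ K) (hy : y ∈ Z), gm F U y (hU hyK) s = a y hy
  have h0 : p ∅ := ⟨∅, subset_rfl, Set.empty_subset _, isCompact_empty, ⊤, 0, Set.empty_subset _,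
    fun y hy => hy.elim⟩
  obtain ⟨K, hTK, hKZ, hKc, U, s, hU, hs⟩ := hZ.induction_on (p := p) h0
    (fun T T' h ⟨K, hK, rest⟩ => ⟨K, h.trans hK, rest⟩)
    (fun T T' ⟨K, hK, hKZ, hKc, U, s, hU, hs⟩ ⟨L, hL, hLZ, hLc, V, t, hV, ht⟩ => by
      obtain ⟨O, r, hO, hrK, hrL⟩ := exists_glue F hsep hKc hLc hKZ hLZ s t hU hV fun y hy =>
        (hs y hy.1 (hKZ hy.1)).trans (ht y hy.2 (hKZ hy.1)).symm
      exact ⟨K ∪ L, Set.union_subset_union hK hL, Set.union_subset hKZ hLZ, hKc.union hLc, O, r, hO,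
        fun y hy hyZ => hy.elim (fun h => (hrK y h).trans (hs y h hyZ)) fun h => (hrL y h).trans (ht y h hyZ)⟩)
    fun x hx => by
      obtain ⟨O, s, hxO, hs⟩ := ha x hx
      haveI : CompactSpace Z := isCompact_iff_compactSpace.1 hZ
      haveI : T2Space Z := ⟨fun z z' h => by
        obtain ⟨A, B, hA, hB, hzA, hzB, hAB⟩ := hsep z.1 z.2 z'.1 z'.2 fun e => h (Subtype.ext e)
        exact ⟨_, _, hA.preimage continuous_subtype_val, hB.preimage continuous_subtype_val, hzA, hzB,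
          hAB.preimage _⟩⟩
      obtain ⟨C, hC, hCO, hCc⟩ := local_compact_nhds
        ((O.2.preimage continuous_subtype_val).mem_nhds (show (⟨x, hx⟩ : Z) ∈ Subtype.val ⁻¹' (O : Set X) from hxO))
      refine ⟨Subtype.val '' C, ?_, Subtype.val '' C, subset_rfl, ?_, hCc.image continuous_subtype_val,
        O, s, ?_, fun y hyK hy => ?_⟩
      · rw [← map_nhds_subtype_val ⟨x, hx⟩]
        exact Filter.image_mem_map hC
      · rintro _ ⟨c, -, rfl⟩
        exact c.2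
      · rintro _ ⟨c, hc, rfl⟩
        exact hCO hc
      · exact (hs y hy _).symm
  exact ⟨U, s, fun y hy => hU (hTK hy), fun y hy => hs y (hTK hy) hy⟩

variable {Z : TopCat.{u}} (ι : Z ⟶ X)

/-- Embeddings with compact, relatively Hausdorff image. -/
structure GoodEmb : Prop where
  emb : Topology.IsEmbedding ι
  compact : IsCompact (Set.range ι)
  sep : RelT2 (Set.range ι)

variable {ι}

/-- Sections of the inverse image on a compact part extend to a neighbourhood. -/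
theorem GoodEmb.exists_section_near (h : GoodEmb ι) (F : CohTop.Ab X) {W : Opens Z} (t : secs ι F W)
    {A : Set Z} (hA : IsClosed A) (hAW : A ⊆ (W : Set Z)) :
    ∃ (U : Opens X) (s : F.obj.obj (op U)) (hU : ι '' A ⊆ (U : Set X)),
      ∀ (z : Z) (hz : z ∈ A), gm F U (ι z) (hU ⟨z, hz, rfl⟩) s = t.1 ⟨z, hAW hz⟩ ⟨ι z, rfl⟩ := by
  haveI : CompactSpace Z :=
    ⟨h.emb.isInducing.isCompact_iff.2 (by rw [Set.image_univ]; exact h.compact)⟩
  have hex : ∀ x ∈ ι '' A, ∃ z, z ∈ A ∧ ι z = x := fun x hx => hx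
  choose z hzA hz using hex
  have key : ∀ (y : X) (hy : y ∈ ι '' A) (w : Z) (hw : w ∈ A) (e : ι w = y),
      t.1 ⟨z y hy, hAW (hzA y hy)⟩ ⟨y, hz y hy⟩ = t.1 ⟨w, hAW hw⟩ ⟨y, e⟩ := by
    intro y hy w hw e
    obtain rfl : w = z y hy := h.emb.injective (e.trans (hz y hy).symm)
    rfl
  obtain ⟨U, s, hU, hs⟩ := exists_section_of_germs F (hA.isCompact.image ι.hom.continuous)
    (h.sep.mono (Set.image_subset_range ι A)) (fun y hy => t.1 ⟨z y hy, hAW (hzA y hy)⟩ ⟨y, hz y hy⟩)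
    fun x hx => by
      obtain ⟨O, s, W', hW', hs⟩ := t.2 ⟨z x hx, hAW (hzA x hx)⟩
      obtain ⟨N, hN, hNW⟩ := h.emb.isInducing.isOpen_iff.1 W'.2
      have hN' : ∀ v : Z, ι v ∈ N ↔ v ∈ W' := fun v => Set.ext_iff.1 hNW v
      let O' : Opens X := O ⊓ ⟨N, hN⟩
      refine ⟨O', F.obj.map (homOfLE inf_le_left).op s,
        ⟨hz x hx ▸ (hs _ hW').1, hz x hx ▸ (hN' (z x hx)).2 hW'⟩, fun y hy hyO => ?_⟩
      rw [gm_res]
      exact (hs ⟨z y hy, hAW (hzA y hy)⟩ ((hN' (z y hy)).1 ((hz y hy).symm ▸ hyO.2))).2 y _ hyO.1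
  exact ⟨U, s, hU, fun w hw => (hs (ι w) ⟨w, hw, rfl⟩).trans (key _ ⟨w, hw, rfl⟩ w hw rfl)⟩

end Groth.Agent.TopCompact
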