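import Groth.Agent.TopCompact.Extend
import Groth.Agent.SiteCoh.Terminal
import Groth.Agent.S0454
import Mathlib.Topology.Sheaves.Abelian
import Mathlib.CategoryTheory.Abelian.Injective.Ext

/-!
Soft sheaves on compact Hausdorff spaces are acyclic.
-/

set_option autoImplicit false
set_option linter.style.haveILetI false
set_option linter.unusedSectionVars false
set_option backward.isDefEq.respectTransparency false
set_option backward.isDefEq.respectTransparency.types false

universe u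

open CategoryTheory Category Limits Opposite TopologicalSpace Abelian
open Groth.Agent.TopPullModel

namespace Groth.Agent.TopCompact

variable {X : TopCat.{u}}

/-- The stalk functor on abelian sheaves. -/
noncomputable abbrev stk (x : X) : CohTop.Ab X ⥤ AddCommGrpCat.{u} :=
  TopCat.Sheaf.forget AddCommGrpCat.{u} X ⋙ TopCat.Presheaf.stalkFunctor AddCommGrpCat.{u} x

instance stk_additive (x : X) : (stk x).Additive := by
  haveI : (TopCat.Sheaf.forget AddCommGrpCat.{u} X).Additive := inferInstance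
  exact inferInstanceAs ((TopCat.Sheaf.forget AddCommGrpCat.{u} X ⋙ TopCat.Presheaf.stalkFunctor AddCommGrpCat.{u} x).Additive)

instance stk_preservesFiniteColimits (x : X) : PreservesFiniteColimits (stk x) :=
  inferInstanceAs (PreservesFiniteColimits
    (TopCat.Sheaf.forget AddCommGrpCat.{u} X ⋙ TopCat.Presheaf.stalkFunctor AddCommGrpCat.{u} x))

instance stk_preservesFiniteLimits (x : X) : PreservesFiniteLimits (stk x) :=
  inferInstanceAs (PreservesFiniteLimits
    (TopCat.Sheaf.forget AddCommGrpCat.{u} X ⋙ TopCat.Presheaf.stalkFunctor AddCommGrpCat.{u} x))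

/-- Short exact sequences on stalks. -/
theorem stk_shortExact {S : ShortComplex (CohTop.Ab X)} (hS : S.ShortExact) (x : X) :
    Function.Injective (stMap S.f x) ∧ (∀ b, stMap S.g x b = 0 → ∃ a, stMap S.f x a = b) ∧
      Function.Surjective (stMap S.g x) := by
  have h := hS.map_of_exact (stk x)
  exact ⟨(AddCommGrpCat.mono_iff_injective _).1 h.mono_f, (ShortComplex.ab_exact_iff _).1 h.exact,
    (AddCommGrpCat.epi_iff_surjective _).1 h.epi_g⟩

/-- Sections over closed subsets extend. -/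
def IsSoft (G : CohTop.Ab X) : Prop :=
  ∀ (A : Set X) (_ : IsClosed A) (W : Opens X) (t : G.obj.obj (op W)) (hAW : A ⊆ (W : Set X)),
    ∃ s : G.obj.obj (op (⊤ : Opens X)), ∀ (a : X) (ha : a ∈ A), gm G ⊤ a trivial s = gm G W a (hAW ha) t

theorem isSoft_of_flasque (G : CohTop.Ab X) [TopCat.Sheaf.IsFlasque G] : IsSoft G := fun A _ W t hAW => by
  obtain ⟨s, hs⟩ := res_surjective_of_flasque G (le_top : W ≤ ⊤) t
  exact ⟨s, fun a ha => by rw [← hs, gm_res]⟩

/-- Equal values give equal germs in the model of the inverse image. -/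
theorem gm_mobj_congr {Z : TopCat.{u}} {ι : Z ⟶ X} {F : CohTop.Ab X} {W W' : Opens Z} (t : secs ι F W)
    (t' : secs ι F W') (a : Z) (ha : a ∈ W) (ha' : a ∈ W')
    (h : t.1 ⟨a, ha⟩ ⟨ι a, rfl⟩ = t'.1 ⟨a, ha'⟩ ⟨ι a, rfl⟩) :
    gm (mobj ι F) W a ha t = gm (mobj ι F) W' a ha' t' := by
  obtain ⟨O, s, V, hV, hs⟩ := t.2 ⟨a, ha⟩
  obtain ⟨O', s', V', hV', hs'⟩ := t'.2 ⟨a, ha'⟩
  obtain ⟨N, hN, hNO, hNO', hNe⟩ := exists_eq_near F s s' {ι a} (by
    rintro _ rfl
    exact ⟨(hs _ hV).1, (hs' _ hV').1,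
      ((hs _ hV).2 _ rfl (hs _ hV).1).symm.trans (h.trans ((hs' _ hV').2 _ rfl (hs' _ hV').1))⟩)
  let M : Opens Z := (V ⊓ V') ⊓ (W ⊓ W') ⊓ (Opens.map ι).obj N
  have haM : a ∈ M := ⟨⟨⟨hV, hV'⟩, ha, ha'⟩, hN rfl⟩
  have hMW : M ≤ W := fun v hv => hv.1.2.1
  have hMW' : M ≤ W' := fun v hv => hv.1.2.2
  have e : (mobj ι F).obj.map (homOfLE hMW).op t = (mobj ι F).obj.map (homOfLE hMW').op t' :=
    secs_ext (g := ι) (F := F) (W := M) fun v x hx => by
      have hxN : x ∈ N := hx ▸ v.2.2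
      exact ((hs ⟨v.1, hMW v.2⟩ v.2.1.1.1).2 x hx (hNO hxN)).trans
        ((hNe x (hNO hxN) (hNO' hxN) hxN).trans ((hs' ⟨v.1, hMW' v.2⟩ v.2.1.1.2).2 x hx (hNO' hxN)).symm)
  rw [← gm_res (mobj ι F) hMW a haM t, ← gm_res (mobj ι F) hMW' a haM t', e]

/-- Flasque sheaves restrict to soft sheaves. -/
theorem GoodEmb.isSoft_mobj {Z : TopCat.{u}} {ι : Z ⟶ X} (h : GoodEmb ι) (F : CohTop.Ab X)
    [TopCat.Sheaf.IsFlasque F] : IsSoft (mobj ι F) := fun A hA W t hAW => by
  obtain ⟨U, s, hU, hs⟩ := h.exists_section_near F t hA hAW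
  obtain ⟨T, hT⟩ := res_surjective_of_flasque F (le_top : U ≤ ⊤) s
  refine ⟨unitApp ι F ⊤ T, fun a ha => gm_mobj_congr (W := (⊤ : Opens Z)) (unitApp ι F ⊤ T) t a trivial (hAW ha) ?_⟩
  change gm F ⊤ (ι a) trivial T = _
  rw [← hs a ha, ← hT, gm_res]

variable [CompactSpace X] [T2Space X]

/-- Lifting sections near closed subsets. -/
theorem exists_lift_near {S : ShortComplex (CohTop.Ab X)} (hS : S.ShortExact) (hsoft : IsSoft S.X₁)
    {A : Set X} (hA : IsClosed A) (W : Opens X) (t : S.X₃.obj.obj (op W)) (hAW : A ⊆ (W : Set X)) :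
    ∃ (U : Opens X) (s : S.X₂.obj.obj (op U)) (hU : A ⊆ (U : Set X)),
      ∀ (a : X) (ha : a ∈ A), stMap S.g a (gm S.X₂ U a (hU ha) s) = gm S.X₃ W a (hAW ha) t := by
  let p : Set X → Prop := fun T => ∃ K, T ⊆ K ∧ K ⊆ A ∧ IsCompact K ∧
    ∃ (U : Opens X) (s : S.X₂.obj.obj (op U)) (hU : K ⊆ (U : Set X)),
      ∀ (a : X) (haK : a ∈ K) (ha : a ∈ A), stMap S.g a (gm S.X₂ U a (hU haK) s) = gm S.X₃ W a (hAW ha) t
  have h0 : p ∅ := ⟨∅, subset_rfl, Set.empty_subset _, isCompact_empty, ⊤, 0, Set.empty_subset _,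
    fun a ha => ha.elim⟩
  obtain ⟨K, hTK, hKA, hKc, U, s, hU, hs⟩ := hA.isCompact.induction_on (p := p) h0
    (fun T T' h ⟨K, hK, rest⟩ => ⟨K, h.trans hK, rest⟩)
    (fun T T' ⟨K, hK, hKA, hKc, U, s, hU, hs⟩ ⟨L, hL, hLA, hLc, V, s', hV, hs'⟩ => by
      have hKL : IsCompact (K ∩ L) := hKc.inter hLc
      have hex : ∀ y ∈ K ∩ L, ∃ (hyU : y ∈ U) (hyV : y ∈ V) (a : CohTop.stalk S.X₁ y),
          stMap S.f y a = gm S.X₂ U y hyU s - gm S.X₂ V y hyV s' := fun y hy => by
        obtain ⟨a, ha⟩ := (stk_shortExact hS y).2.1 (gm S.X₂ U y (hU hy.1) s - gm S.X₂ V y (hV hy.2) s')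
          (by rw [map_sub, hs y hy.1 (hKA hy.1), hs' y hy.2 (hKA hy.1), sub_self])
        exact ⟨hU hy.1, hV hy.2, a, ha⟩
      choose hyU hyV a ha using hex
      obtain ⟨N, e, hN, he⟩ := exists_section_of_germs S.X₁ hKL (RelT2.of_t2 _) a fun x hx => by
        obtain ⟨O, hxO, e, he⟩ := exists_gm_eq S.X₁ (a x hx)
        let M : Opens X := O ⊓ (U ⊓ V)
        let d : S.X₂.obj.obj (op M) := S.X₂.obj.map (homOfLE (inf_le_right.trans inf_le_left)).op s -
          S.X₂.obj.map (homOfLE (inf_le_right.trans inf_le_right)).op s'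
        obtain ⟨M', hM', hM'M, -, hM'e⟩ := exists_eq_near S.X₂ d (S.f.hom.app (op O) e) {x} (by
          intro y hy
          obtain rfl : x = y := (show y = x from hy).symm
          refine ⟨⟨hxO, hyU x hx, hyV x hx⟩, hxO, ?_⟩
          rw [map_sub, gm_res, gm_res, ← ha x hx, ← he, stMap_gm])
        refine ⟨M', S.X₁.obj.map (homOfLE (hM'M.trans inf_le_left)).op e, hM' rfl, fun y hy hyM => ?_⟩
        refine (stk_shortExact hS y).1 ?_
        rw [ha y hy, gm_res, stMap_gm, ← hM'e y (hM'M hyM) (hM'M hyM).1 hyM, map_sub, gm_res, gm_res]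
      obtain ⟨e', he'⟩ := hsoft (K ∩ L) hKL.isClosed N e hN
      let s'' : S.X₂.obj.obj (op V) :=
        s' + S.X₂.obj.map (homOfLE (le_top : V ≤ ⊤)).op (S.f.hom.app (op ⊤) e')
      have hg0 : ∀ (y : X) (z : CohTop.stalk S.X₁ y), stMap S.g y (stMap S.f y z) = 0 := fun y z => by
        have := ConcreteCategory.congr_hom (S.map (stk y)).zero z
        exact this
      obtain ⟨O, r, hO, hrK, hrL⟩ := exists_glue S.X₂ (RelT2.of_t2 (Set.univ : Set X)) hKc hLc
        (Set.subset_univ _) (Set.subset_univ _) s s'' hU hV fun y hy => by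
          rw [map_add, gm_res, ← stMap_gm, he' y hy, he y hy, ha y hy, add_sub_cancel]
      exact ⟨K ∪ L, Set.union_subset_union hK hL, Set.union_subset hKA hLA, hKc.union hLc, O, r, hO,
        fun y hy hyA => hy.elim (fun h => by rw [hrK y h, hs y h hyA]) fun h => by
          rw [hrL y h, map_add, map_add, gm_res, ← stMap_gm, hg0, add_zero, hs' y h hyA]⟩)
    fun x hx => by
      obtain ⟨b, hb⟩ := (stk_shortExact hS x).2.2 (gm S.X₃ W x (hAW hx) t)
      obtain ⟨O, hxO, s, rfl⟩ := exists_gm_eq S.X₂ b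
      rw [stMap_gm] at hb
      obtain ⟨M, hM, hMO, hMW, hMe⟩ := exists_eq_near S.X₃ (S.g.hom.app (op O) s) t {x} (by
        intro y hy
        obtain rfl : x = y := (show y = x from hy).symm
        exact ⟨hxO, hAW hx, hb⟩)
      obtain ⟨C, hC, hCM, hCc⟩ := local_compact_nhds (M.2.mem_nhds (hM rfl : x ∈ M))
      refine ⟨A ∩ C, Filter.inter_mem self_mem_nhdsWithin (nhdsWithin_le_nhds hC), A ∩ C, subset_rfl,
        Set.inter_subset_left, hCc.inter_left hA, O, s, fun y hy => hMO (hCM hy.2), fun y hy hyA => ?_⟩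
      rw [stMap_gm]
      exact hMe y (hMO (hCM hy.2)) (hAW hyA) (hCM hy.2)
  exact ⟨U, s, fun a ha => hU (hTK ha), fun a ha => hs a (hTK ha) ha⟩

/-- Quotients of soft sheaves by soft sheaves are soft. -/
theorem isSoft_quotient {S : ShortComplex (CohTop.Ab X)} (hS : S.ShortExact) (h₁ : IsSoft S.X₁)
    (h₂ : IsSoft S.X₂) : IsSoft S.X₃ := fun A hA W t hAW => by
  obtain ⟨U, s, hU, hs⟩ := exists_lift_near hS h₁ hA W t hAW
  obtain ⟨r, hr⟩ := h₂ A hA U s hU
  exact ⟨S.g.hom.app (op ⊤) r, fun a ha => by rw [← stMap_gm, hr a ha, hs a ha]⟩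

theorem surjective_top {S : ShortComplex (CohTop.Ab X)} (hS : S.ShortExact) (h₁ : IsSoft S.X₁) :
    Function.Surjective (S.g.hom.app (op (⊤ : Opens X))) := fun t => by
  obtain ⟨U, s, hU, hs⟩ := exists_lift_near hS h₁ isClosed_univ ⊤ t (fun _ _ => trivial)
  refine ⟨S.X₂.obj.map (homOfLE (fun x _ => hU (Set.mem_univ x) : (⊤ : Opens X) ≤ U)).op s,
    gm_ext S.X₃ ⊤ _ _ fun x _ => ?_⟩
  rw [← stMap_gm, gm_res]
  exact hs x (Set.mem_univ x)

/-- Soft sheaves on compact Hausdorff spaces are acyclic. -/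
theorem subsingleton_H_of_isSoft : ∀ (n : ℕ) (G : CohTop.Ab X), IsSoft G → Subsingleton (CohTop.H G (n + 1)) := by
  intro n
  induction n with
  | zero =>
    intro G hG
    let S : ShortComplex (CohTop.Ab X) :=
      ShortComplex.mk (Injective.ι G) (cokernel.π (Injective.ι G)) (cokernel.condition _)
    have hS : S.ShortExact := { exact := ShortComplex.exact_cokernel (Injective.ι G) }
    refine ⟨fun x y => ?_⟩
    suffices h : ∀ z : CohTop.H G (0 + 1), z = 0 from (h x).trans (h y).symm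
    intro z
    haveI : Injective S.X₂ := inferInstanceAs (Injective (Injective.under G))
    obtain ⟨w, rfl⟩ := Ext.covariant_sequence_exact₁ _ hS z
      ((Ext.eq_zero_of_injective _)) rfl
    obtain ⟨w, rfl⟩ := Ext.homEquiv₀.symm.surjective w
    let T := Groth.Agent.SiteCoh.constHom (Opens.grothendieckTopology X) (T := (⊤ : Opens X)) isTerminalTop
    obtain ⟨s, hs⟩ := surjective_top hS hG (T S.X₃ w)
    have hw : w = (T S.X₂).symm s ≫ S.g := (T S.X₃).injective (by
      rw [SiteCoh.constHom_comp, AddEquiv.apply_symm_apply]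
      exact hs.symm)
    rw [hw, Ext.homEquiv₀_symm_apply, ← Ext.mk₀_comp_mk₀, Ext.comp_assoc_of_second_deg_zero,
      hS.comp_extClass, Ext.comp_zero]
  | succ n ih =>
    intro G hG
    let S : ShortComplex (CohTop.Ab X) :=
      ShortComplex.mk (Injective.ι G) (cokernel.π (Injective.ι G)) (cokernel.condition _)
    have hS : S.ShortExact := { exact := ShortComplex.exact_cokernel (Injective.ι G) }
    haveI : Injective S.X₂ := inferInstanceAs (Injective (Injective.under G))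
    haveI : TopCat.Sheaf.IsFlasque S.X₂ := S0454.result S.X₂
    have h3 := ih S.X₃ (isSoft_quotient hS hG (isSoft_of_flasque S.X₂))
    refine ⟨fun x y => ?_⟩
    suffices h : ∀ z : CohTop.H G (n + 1 + 1), z = 0 from (h x).trans (h y).symm
    intro z
    obtain ⟨w, rfl⟩ := Ext.covariant_sequence_exact₁ _ hS z ((Ext.eq_zero_of_injective _)) rfl
    rw [Subsingleton.elim (α := CohTop.H S.X₃ (n + 1)) w 0, Ext.zero_comp]

end Groth.Agent.TopCompact
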